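import Cfsg.Agent.H512.Co3.Zone

/-!
# S1920, case B: the sign vectors of `N0` in the frame (helper512)

`card_signs` : there are exactly `32` of them; `all_signs` : every sign vector with determinant one and trivial spinor
norm is one of them.
-/

set_option autoImplicit false

open Subgroup

namespace Cfsg.Agent.H512.Co3

open Cfsg.Agent.H13.Co3 (CB)
open Module

variable {F V : Type*} [Field F] [AddCommGroup V] [Module F V]
variable {Γ : Type*} [Group Γ] {P N0 : Subgroup Γ} {z s : Γ} {ψ : ↥(normalizer (P : Set Γ)) →* Equiv.Perm (Fin 6)}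
  {act : Γ → V →ₗ[F] V} {B : V →ₗ[F] V →ₗ[F] F}

open Classical in
/-- the sign of `n` on `v` -/
noncomputable def sg (act : Γ → V →ₗ[F] V) (n : Γ) (v : V) : ZMod 2 := if act n v = v then 0 else 1

namespace Fr

variable {w m : ℕ} {e : Fin w → V} {b : Fin m → V}

/-- the vectors carrying the signs -/
def vec (h : Fr P N0 z s ψ act B e b) : Option (Fin m) → V
  | none => e ⟨0, by have := h.w3; omega⟩
  | some k => b k

theorem vec_eig (h : Fr P N0 z s ψ act B e b) (k : Option (Fin m)) : Eig N0 act (h.vec k) := by
  cases k with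
  | none => exact h.eig (Sum.inl _)
  | some k => exact h.eigB k

theorem vec_ne (h : Fr P N0 z s ψ act B e b) (k : Option (Fin m)) : h.vec k ≠ 0 := by
  cases k with
  | none => exact h.ne0 (Sum.inl _)
  | some k => exact h.ne0 (Sum.inr k)

theorem act_sg (_h : Fr P N0 z s ψ act B e b) {n : Γ} (hn : n ∈ N0) {v : V} (hv : Eig N0 act v) :
    act n v = if sg act n v = 0 then v else -v := by
  unfold sg
  rcases hv n hn with e1 | e1
  · rw [if_pos e1, if_pos rfl, e1]
  · by_cases e2 : act n v = v
    · rw [if_pos e2, if_pos rfl, e2]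
    · rw [if_neg e2, if_neg one_ne_zero, e1]

theorem act_e (h : Fr P N0 z s ψ act B e b) {n : Γ} (hn : n ∈ N0) (i : Fin w) :
    act n (e i) = if sg act n (h.vec none) = 0 then e i else -e i := by
  have h0 := h.act_sg hn (h.vec_eig none)
  rcases h.eigE n hn with e1 | e1
  · have : sg act n (h.vec none) = 0 := by
      unfold sg; exact if_pos (e1 _)
    rw [if_pos this, e1]
  · have : sg act n (h.vec none) ≠ 0 := by
      unfold sg
      rw [if_neg]
      · exact one_ne_zero
      · intro e2
        exact h.ne_neg (h.vec_ne none) ((e1 _).symm.trans e2)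
    rw [if_neg this, e1]

theorem sg_mul (h : Fr P N0 z s ψ act B e b) {n n' : Γ} (hn : n ∈ N0) (hn' : n' ∈ N0) {v : V}
    (hv : Eig N0 act v) (hv0 : v ≠ 0) : sg act (n * n') v = sg act n v + sg act n' v := by
  have hne := h.ne_neg hv0
  unfold sg
  rw [h.big.S.mul _ _ (h.big.nz hn) (h.big.nz hn')]
  have h11 : (1 : ZMod 2) + 1 = 0 := by decide
  rcases hv n hn with e1 | e1
  · rcases hv n' hn' with e2 | e2
    · simp only [e1, e2, if_true, add_zero]
    · simp only [e1, e2, map_neg, hne, if_true, if_false, zero_add]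
  · rcases hv n' hn' with e2 | e2
    · simp only [e1, e2, hne, if_true, if_false, add_zero]
    · simp only [e1, e2, map_neg, neg_neg, hne, if_true, if_false, h11]

/-- the sign vector -/
noncomputable def sig (h : Fr P N0 z s ψ act B e b) : N0 →* Multiplicative (Option (Fin m) → ZMod 2) where
  toFun n := Multiplicative.ofAdd fun k => sg act (n : Γ) (h.vec k)
  map_one' := by
    rw [← ofAdd_zero]
    congr 1
    funext k
    simp only [sg, Subgroup.coe_one, h.big.S.one', if_true]
    rfl
  map_mul' := by
    intro n n'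
    rw [← ofAdd_add]
    congr 1
    funext k
    exact h.sg_mul n.2 n'.2 (h.vec_eig k) (h.vec_ne k)

theorem sig_apply (h : Fr P N0 z s ψ act B e b) (n : N0) (k : Option (Fin m)) :
    Multiplicative.toAdd (h.sig n) k = sg act (n : Γ) (h.vec k) := rfl

/-- elements of `N0` with the same sign vector have the same action -/
theorem same_act [FiniteDimensional F V] (h : Fr P N0 z s ψ act B e b) {n n' : Γ} (hn : n ∈ N0) (hn' : n' ∈ N0)
    (hs : ∀ k, sg act n (h.vec k) = sg act n' (h.vec k)) (v : V) : act n v = act n' v := by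
  refine h.orth.ext_map h.hcard ?_ v
  rintro (i | k)
  · rw [Sum.elim_inl, h.act_e hn, h.act_e hn', hs]
  · have h1 := h.act_sg hn (h.vec_eig (some k))
    have h2 := h.act_sg hn' (h.vec_eig (some k))
    rw [hs] at h1
    rw [Sum.elim_inr]
    exact h1.trans h2.symm

theorem card_signs [FiniteDimensional F V] (h : Fr P N0 z s ψ act B e b) : Nat.card h.sig.range = 32 := by
  have h1 : Nat.card h.sig.ker = 2 := by
    have hz := zN h.big.C
    have hk : h.sig.ker = zpowers (⟨z, hz⟩ : N0) := by
      ext n
      constructor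
      · intro hn
        have hn' : ∀ k, sg act (n : Γ) (h.vec k) = sg act 1 (h.vec k) := fun k => by
          have := congrArg (fun x : Multiplicative (Option (Fin m) → ZMod 2) => Multiplicative.toAdd x k) (MonoidHom.mem_ker.1 hn)
          simp only [sig_apply] at this
          rw [this]
          simp only [sg, h.big.S.one', if_true]
          rfl
        have h3 := h.same_act n.2 (one_mem N0) hn'
        rcases h.big.S.ker (n : Γ) (h.big.nz n.2) (fun v => by rw [h3, h.big.S.one']) with e1 | e1
        · have : n = 1 := Subtype.ext e1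
          rw [this]; exact one_mem _
        · have : n = ⟨z, hz⟩ := Subtype.ext e1
          rw [this]; exact mem_zpowers _
      · rintro ⟨j, rfl⟩
        apply zpow_mem
        rw [MonoidHom.mem_ker]
        apply Multiplicative.toAdd.injective
        funext k
        rw [sig_apply]
        simp only [sg, h.big.S.act_z', if_true]
        rfl
    rw [hk, Nat.card_zpowers]
    apply orderOf_eq_prime
    · rw [pow_two]; exact Subtype.ext h.big.C.z_sq
    · intro h0; exact h.big.C.z_ne (congrArg Subtype.val h0)
  have h2 := Subgroup.card_mul_index h.sig.ker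
  rw [Subgroup.index_ker, h1, h.big.C.card] at h2
  omega

/-- the determinant and the spinor norm of a sign vector -/
noncomputable def phi (_h : Fr P N0 z s ψ act B e b) : (Option (Fin m) → ZMod 2) →+ ZMod 2 × ZMod 2 where
  toFun x := (w * x none + ∑ k, x (some k),
    x none * ∑ i, cls (B (e i) (e i)) + ∑ k, x (some k) * cls (B (b k) (b k)))
  map_zero' := by simp
  map_add' := by
    intro x y
    ext
    · simp only [Pi.add_apply, Prod.fst_add, Finset.sum_add_distrib]; ring
    · simp only [Pi.add_apply, Prod.snd_add, add_mul, Finset.sum_add_distrib]; ring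

/-- **every sign vector with determinant one and trivial spinor norm is the sign vector of an element of `N0`** -/
theorem all_signs [Finite F] [FiniteDimensional F V] (h : Fr P N0 z s ψ act B e b) {x : Option (Fin m) → ZMod 2}
    (hx : h.phi x = 0) : ∃ n ∈ N0, ∀ k, sg act n (h.vec k) = x k := by
  classical
  let y : Fin w ⊕ Fin m → ZMod 2 := Sum.elim (fun _ => x none) fun k => x (some k)
  have h1 : w * x none + ∑ k, x (some k) = 0 := congrArg Prod.fst hx
  have h2 : x none * ∑ i, cls (B (e i) (e i)) + ∑ k, x (some k) * cls (B (b k) (b k)) = 0 := congrArg Prod.snd hx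
  obtain ⟨g, hgz, hg⟩ := sign_lift h.big.S h.orth _ y rfl
    (by
      rw [Fintype.sum_sum_type]
      simp only [y, Sum.elim_inl, Sum.elim_inr, Finset.sum_const, Finset.card_univ, Fintype.card_fin, nsmul_eq_mul]
      exact h1)
    (by
      rw [Fintype.sum_sum_type]
      simp only [y, Sum.elim_inl, Sum.elim_inr, ← Finset.mul_sum]
      exact h2)
  have hN : g ∈ N0 := by
    refine h.diag_mem hgz (a := if x none = 0 then 1 else -1) (fun i => ?_) (by split_ifs <;> ring) (fun k => ?_)
    · have this : act g (e i) = if x none = 0 then e i else -e i := hg (Sum.inl i)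
      rw [this]
      by_cases hx0 : x none = 0
      · rw [if_pos hx0, if_pos hx0, one_smul]
      · rw [if_neg hx0, if_neg hx0, neg_one_smul]
    · have this : act g (b k) = if x (some k) = 0 then b k else -b k := hg (Sum.inr k)
      rw [this]
      by_cases hx0 : x (some k) = 0
      · rw [if_pos hx0]; left; rfl
      · rw [if_neg hx0]; right; rfl
  refine ⟨g, hN, fun k => ?_⟩
  have z1 : ∀ a : ZMod 2, a ≠ 0 → a = 1 := by decide
  have key : ∀ (v : V) (a : ZMod 2), v ≠ 0 → act g v = (if a = 0 then v else -v) → sg act g v = a := by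
    intro v a hv hva
    unfold sg
    by_cases ha : a = 0
    · rw [if_pos ha] at hva
      rw [if_pos hva, ha]
    · rw [if_neg ha] at hva
      rw [if_neg (fun e1 => h.ne_neg hv (hva.symm.trans e1)), z1 a ha]
  cases k with
  | none => exact key _ _ (h.vec_ne none) (hg (Sum.inl _))
  | some k => exact key _ _ (h.vec_ne (some k)) (hg (Sum.inr k))

theorem ker_phi_le [Finite F] [FiniteDimensional F V] (h : Fr P N0 z s ψ act B e b) (x : Option (Fin m) → ZMod 2)
    (hx : h.phi x = 0) : Multiplicative.ofAdd x ∈ h.sig.range := by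
  obtain ⟨n, hn, hs⟩ := h.all_signs hx
  refine ⟨⟨n, hn⟩, ?_⟩
  apply Multiplicative.toAdd.injective
  funext k
  exact hs k

theorem card_ker (h : Fr P N0 z s ψ act B e b) : 2 ^ (m + 1) ≤ Nat.card h.phi.ker * 4 := by
  have h1 := AddSubgroup.card_mul_index h.phi.ker
  have h2 : h.phi.ker.index ≤ 4 := by
    rw [AddSubgroup.index_ker]
    have : Nat.card (ZMod 2 × ZMod 2) = 4 := by simp
    rw [← this]
    exact Nat.card_le_card_of_injective _ Subtype.val_injective
  have h3 : Nat.card (Option (Fin m) → ZMod 2) = 2 ^ (m + 1) := by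
    rw [Nat.card_eq_fintype_card, Fintype.card_fun, ZMod.card, Fintype.card_option, Fintype.card_fin]
  rw [h3] at h1
  rw [← h1]
  exact Nat.mul_le_mul_left _ h2

theorem card_le [Finite F] [FiniteDimensional F V] (h : Fr P N0 z s ψ act B e b) : Nat.card h.phi.ker ≤ 32 := by
  rw [← h.card_signs]
  refine Nat.card_le_card_of_injective (fun x : h.phi.ker => (⟨Multiplicative.ofAdd x.1, h.ker_phi_le _ x.2⟩ :
    h.sig.range)) ?_
  intro x y hxy
  have := Subtype.ext_iff.1 hxy
  exact Subtype.ext (Multiplicative.ofAdd.injective this)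

/-- at most six further vectors -/
theorem m_le [Finite F] [FiniteDimensional F V] (h : Fr P N0 z s ψ act B e b) : m ≤ 6 := by
  have h1 := h.card_ker
  have h2 := h.card_le
  by_contra hc
  push Not at hc
  have h3 : 2 ^ 8 ≤ 2 ^ (m + 1) := Nat.pow_le_pow_right (by norm_num) (by omega)
  have h7 : (2 : ℕ) ^ 8 = 256 := by norm_num
  rw [h7] at h3
  omega

/-- at least four further vectors -/
theorem le_m [FiniteDimensional F V] (h : Fr P N0 z s ψ act B e b) : 4 ≤ m := by
  have h1 : Nat.card h.sig.range ≤ Nat.card (Multiplicative (Option (Fin m) → ZMod 2)) :=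
    Nat.card_le_card_of_injective _ Subtype.val_injective
  have h3 : Nat.card (Multiplicative (Option (Fin m) → ZMod 2)) = 2 ^ (m + 1) := by
    rw [Nat.card_congr Multiplicative.toAdd, Nat.card_eq_fintype_card, Fintype.card_fun, ZMod.card,
      Fintype.card_option, Fintype.card_fin]
  rw [h.card_signs, h3] at h1
  by_contra hc
  push Not at hc
  have h4 : 2 ^ (m + 1) ≤ 2 ^ 4 := Nat.pow_le_pow_right (by norm_num) (by omega)
  have h7 : (2 : ℕ) ^ 4 = 16 := by norm_num
  rw [h7] at h4
  omega

/-- if there are exactly `32` sign vectors with determinant one and trivial spinor norm then these are the sign vectors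
of `N0` -/
theorem signs_eq [Finite F] [FiniteDimensional F V] (h : Fr P N0 z s ψ act B e b) (hm : m = 6) {n : Γ} (hn : n ∈ N0) :
    h.phi (fun k => sg act n (h.vec k)) = 0 := by
  subst hm
  have h1 := h.card_ker
  have h2 := h.card_le
  have h7 : (2 : ℕ) ^ (6 + 1) = 128 := by norm_num
  rw [h7] at h1
  have h3 : Nat.card h.phi.ker = 32 := by omega
  let ι : h.phi.ker → h.sig.range := fun x => ⟨Multiplicative.ofAdd x.1, h.ker_phi_le _ x.2⟩
  have hι : Function.Injective ι := by
    intro x y hxy
    have := Subtype.ext_iff.1 hxy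
    exact Subtype.ext (Multiplicative.ofAdd.injective this)
  have hfin : Finite h.sig.range := Subtype.finite
  have hsurj : Function.Surjective ι :=
    ((Nat.bijective_iff_injective_and_card ι).2 ⟨hι, by rw [h3, h.card_signs]⟩).2
  obtain ⟨x, hx⟩ := hsurj ⟨h.sig ⟨n, hn⟩, ⟨n, hn⟩, rfl⟩
  have hx' : Multiplicative.ofAdd x.1 = h.sig ⟨n, hn⟩ := congrArg Subtype.val hx
  have hx2 : (fun k => sg act n (h.vec k)) = x.1 := by
    funext k
    rw [← h.sig_apply ⟨n, hn⟩ k, ← hx']
    rfl
  rw [hx2]
  exact x.2

end Fr

end Cfsg.Agent.H512.Co3
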