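import Cfsg.Agent.H512.Co3.Main
import Cfsg.Agent.H275.Co3.IsoE6
import Mathlib.NumberTheory.LegendreSymbol.QuadraticChar.Basic

/-!
# S1920, case B: `E₆(q)`, `q ≡ 3 mod 4` (helper512)

The centraliser of the involution `z0` of `E6univ F` acts on the 10-dimensional part: this is an orthogonal situation
with discriminant `-1`; so there is no configuration `CB` if `-1` is not a square.
-/

set_option autoImplicit false

open Subgroup Module

namespace Cfsg.Agent.H512.Co3.E6

open Cfsg Cfsg.Lie Matrix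
open Cfsg.Agent.ChevalleyStructure.E6Min Cfsg.Agent.ChevalleyStructure.E6Min.Tables
  Cfsg.Agent.ChevalleyStructure.E6Min.Basic Cfsg.Agent.ChevalleyStructure.E6Min.Forms
  Cfsg.Agent.ChevalleyStructure.E6Min.Inv Cfsg.Agent.ChevalleyStructure.E6Min.Elim
open Cfsg.Agent.H512.DFive
open Cfsg.Agent.H275.Co3 (suppT finrank_suppT mem_suppT_ten card_ten Bl iso_of_CB)
open Cfsg.Agent.H13.Co3 (CB)

variable {F : Type} [Field F]

/-- the projection to the 10-dimensional part -/
def P10 (F : Type) [Field F] : (I27 → F) →ₗ[F] suppT F 2 where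
  toFun x := ⟨p10 x, mem_suppT_ten.2 (p10_p10 x)⟩
  map_add' x y := Subtype.ext (p10_add x y)
  map_smul' c x := Subtype.ext (p10_smul c x)

/-- the action on the 10-dimensional part -/
noncomputable def actE (g : ↥(E6univ F)) : suppT F 2 →ₗ[F] suppT F 2 :=
  P10 F ∘ₗ (Matrix.toLin' (((g : GL I27 F) : Matrix I27 I27 F))) ∘ₗ (suppT F 2).subtype

theorem coe_actE (g : ↥(E6univ F)) (w : suppT F 2) :
    (actE g w : I27 → F) = p10 (((g : GL I27 F) : Matrix I27 I27 F) *ᵥ (w : I27 → F)) := by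
  show p10 (Matrix.toLin' (((g : GL I27 F) : Matrix I27 I27 F)) (w : I27 → F)) = _
  rw [Matrix.toLin'_apply]

/-- the form on the 10-dimensional part -/
noncomputable def BE (F : Type) [Field F] : suppT F 2 →ₗ[F] suppT F 2 →ₗ[F] F :=
  (Bl F).compl₁₂ (suppT F 2).subtype (suppT F 2).subtype

theorem BE_apply (u w : suppT F 2) : BE F u w = BB (u : I27 → F) (w : I27 → F) := rfl

theorem p10_coe (w : suppT F 2) : p10 (w : I27 → F) = w := mem_suppT_ten.1 w.2

theorem p16_coe (w : suppT F 2) : p16 (w : I27 → F) = 0 := by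
  rw [← p10_coe w]; funext i; simp only [p10, p16]
  split_ifs with a b
  · omega
  · rfl
  · rfl

theorem coe_i0 (w : suppT F 2) : (w : I27 → F) i0 = 0 := by
  rw [← p10_coe w]; simp [p10, ty_i0]

theorem coe_rf (u w : suppT F 2) : ((rf (BE F) u w : suppT F 2) : I27 → F) = DFive.rf (u : I27 → F) (w : I27 → F) := rfl

/-- **The orthogonal situation of `E₆(q)`.** -/
theorem sit (h2 : (2 : F) ≠ 0) {z : ↥(E6univ F)} (hz : (z : GL I27 F) = z0 F) : Sit z actE (BE F) := by
  have hcomm : ∀ {g : ↥(E6univ F)}, g * z = z * g → (g : GL I27 F) * z0 F = z0 F * g := fun {g} h => by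
    have := congrArg Subtype.val h
    rw [← hz]; exact this
  have hact : ∀ {g : ↥(E6univ F)}, g * z = z * g → ∀ w : suppT F 2,
      (actE g w : I27 → F) = ((g : GL I27 F) : Matrix I27 I27 F) *ᵥ (w : I27 → F) := fun {g} h w => by
    obtain ⟨a, -, -, h1, -⟩ := cent_act h2 g.2 (hcomm h)
    rw [coe_actE, h1 _ (p10_coe w)]
  refine ⟨h2, fun u v => BB_symm _ _, fun u hu => ?_, ?_, fun g h hg hh v => ?_, fun g hg => ?_, ?_, fun g hg hv => ?_,
    fun u v c hc hcc => ?_⟩
  · apply Subtype.ext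
    exact eq_zero_of_BB (p10_coe u) fun w hw => hu ⟨w, mem_suppT_ten.2 hw⟩
  · apply LinearMap.ext
    intro w
    apply Subtype.ext
    rw [coe_actE, Subgroup.coe_one, Units.val_one, Matrix.one_mulVec, p10_coe]
    rfl
  · apply Subtype.ext
    rw [hact (Sit.mul_comm' hg hh), hact hg, hact hh, Matrix.mulVec_mulVec]
    rfl
  · obtain ⟨a, ha, -, -, h1⟩ := cent_act h2 g.2 (hcomm hg)
    refine ⟨a⁻¹, inv_ne_zero ha, fun u v => ?_⟩
    rw [BE_apply, BE_apply, hact hg, hact hg, ← h1 _ _ (p10_coe u) (p10_coe v), ← mul_assoc, inv_mul_cancel₀ ha,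
      one_mul]
  · apply LinearMap.ext
    intro w
    apply Subtype.ext
    rw [coe_actE, hz, z0_mulVec, p16_coe, smul_zero, sub_zero, p10_coe]
    rfl
  · have h3 : ∀ w, p10 w = w → ((g : GL I27 F) : Matrix I27 I27 F) *ᵥ w = w := fun w hw => by
      have := congrArg Subtype.val (hv ⟨w, mem_suppT_ten.2 hw⟩)
      rw [hact hg] at this
      exact this
    rcases cent_ker h2 g.2 (hcomm hg) h3 with h4 | h4
    · left; exact Subtype.ext h4
    · right; exact Subtype.ext (h4.trans hz.symm)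
  · obtain ⟨g, hg, hgx⟩ := exists_lift h2 (p10_coe u) (p10_coe v) (c := c / 2) (div_ne_zero hc h2) (by
      rw [← BE_apply, ← BE_apply, ← hcc]
      field_simp
      norm_num)
    have h16 : ∀ x, p16 ((g : Matrix I27 I27 F) *ᵥ x) = (g : Matrix I27 I27 F) *ᵥ p16 x := by
      intro x
      have e1 : p16 ((c / 2)⁻¹ • cr (til (u : I27 → F)) (cr (v : I27 → F) (p16 x))) =
          (c / 2)⁻¹ • cr (til (u : I27 → F)) (cr (v : I27 → F) (p16 x)) := by
        rw [p16_smul, p16_cr (p10_til _) (p16_cr (p10_coe v) (p16_p16 x))]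
      obtain ⟨-, -, e2⟩ := comps (t := x i0) (p10_rf (p10_coe u) (p10_rf (p10_coe v) (p10_p10 x))) e1
      rw [hgx, e2, hgx]
      have e3 : (p16 x) i0 = 0 := by simp [p16, ty_i0]
      have e4 : p10 (p16 x) = 0 := by
        funext i; simp only [p10, p16]
        split_ifs with a b
        · omega
        · rfl
        · rfl
      have e5 : ∀ y : I27 → F, DFive.rf y 0 = 0 := fun y => by
        have := DFive.rf_smul (0 : F) y 0
        simpa using this
      rw [e3, e4, e5, e5, zero_smul, zero_add, zero_add, p16_p16]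
    have hgz : (⟨g, hg⟩ : ↥(E6univ F)) * z = z * ⟨g, hg⟩ := by
      apply Subtype.ext
      show g * (z : GL I27 F) = (z : GL I27 F) * g
      rw [hz]
      apply Units.ext
      apply Matrix.ext_of_mulVec_single
      intro i
      rw [Units.val_mul, Units.val_mul, ← Matrix.mulVec_mulVec, ← Matrix.mulVec_mulVec, z0_mulVec, z0_mulVec, h16,
        Matrix.mulVec_sub, Matrix.mulVec_smul]
    refine ⟨⟨g, hg⟩, hgz, fun w => ?_⟩
    apply Subtype.ext
    rw [hact hgz, coe_rf, coe_rf]
    show (g : Matrix I27 I27 F) *ᵥ (w : I27 → F) = _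
    rw [hgx, coe_i0, p10_coe, p16_coe, zero_smul, zero_add, cr_zero_right, cr_zero_right, smul_zero, add_zero]

/-! ### the discriminant -/

/-- representatives of the five hyperbolic pairs -/
def kk (a : Fin 5) : I27 := dec (![4, 5, 9, 10, 11] a)

theorem kk_ty : ∀ a, ty (kk a) = 2 := by decide +kernel

theorem kk_ne : ∀ a c, a ≠ c → kk a ≠ kk c := by decide +kernel

theorem kk_opp : ∀ a c, kk a ≠ opp (kk c) := by decide +kernel

/-- the hyperbolic vectors -/
def hyp (F : Type) [Field F] (x : Fin 5 × Bool) : suppT F 2 :=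
  ⟨e F (kk x.1) + (if x.2 then (1 : F) else -1) • e F (opp (kk x.1)), by
    rw [mem_suppT_ten, p10_add, p10_smul, p10_e, p10_e, if_pos (kk_ty _), if_pos (opp_spec (kk_ty _)).1]⟩

/-- the sign -/
def sF (F : Type) [Field F] (b : Bool) : F := if b then 1 else -1

theorem BE_hyp (x y : Fin 5 × Bool) : BE F (hyp F x) (hyp F y) =
    if x.1 = y.1 then ((sgm (kk x.1) : ℤ) : F) * (sF F x.2 + sF F y.2) else 0 := by
  obtain ⟨a1, a2, a3, -, a5⟩ := opp_spec (kk_ty x.1)
  obtain ⟨b1, b2, b3, -, b5⟩ := opp_spec (kk_ty y.1)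
  show BB (e F (kk x.1) + sF F x.2 • e F (opp (kk x.1))) (e F (kk y.1) + sF F y.2 • e F (opp (kk y.1))) = _
  rw [BB_add_left, BB_add_right, BB_add_right, BB_smul_left, BB_smul_left, BB_smul_right, BB_smul_right,
    BB_e (kk_ty _), BB_e (kk_ty _), BB_e a1, BB_e a1, a2, a3, if_neg (kk_opp _ _)]
  have c4 : opp (kk y.1) ≠ kk x.1 := fun h => kk_opp x.1 y.1 h.symm
  rw [if_neg c4]
  by_cases h : x.1 = y.1
  · rw [if_pos h, if_pos (by rw [h]), if_pos (by rw [h])]
    ring
  · rw [if_neg h, if_neg (fun h' => h (by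
      by_contra hne
      exact kk_ne _ _ hne (by rw [← a2, ← h', b2]))), if_neg (fun h' => kk_ne _ _ h h'.symm)]
    ring

theorem orth_hyp (h2 : (2 : F) ≠ 0) : Orth (BE F) (hyp F) := by
  have sg : ∀ k : I27, ((sgm k : ℤ) : F) ≠ 0 := fun k => by unfold sgm; exact tsN_ne_zero _
  refine ⟨fun x y hxy => ?_, fun x => ?_⟩
  · rw [BE_hyp]
    split_ifs with h
    · have h' : x.2 ≠ y.2 := fun h' => hxy (Prod.ext h h')
      have : sF F x.2 + sF F y.2 = 0 := by
        revert h'
        unfold sF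
        cases x.2 <;> cases y.2 <;> simp
      rw [this, mul_zero]
    · rfl
  · rw [BE_hyp, if_pos rfl]
    refine mul_ne_zero (sg _) ?_
    rw [← two_mul]
    refine mul_ne_zero h2 ?_
    unfold sF
    split_ifs
    · exact one_ne_zero
    · exact neg_ne_zero.2 one_ne_zero

theorem disc_hyp [Fintype F] (h2 : (2 : F) ≠ 0) (h4 : Fintype.card F % 4 = 3) :
    ∑ x, cls (BE F (hyp F x) (hyp F x)) = 1 := by
  have sg : ∀ k : I27, ((sgm k : ℤ) : F) ≠ 0 := fun k => by unfold sgm; exact tsN_ne_zero _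
  have hm1 : cls (-1 : F) = 1 := by
    unfold cls
    rw [if_neg]
    rw [FiniteField.isSquare_neg_one_iff]
    exact fun h => h h4
  have key : ∀ a : Fin 5, cls (BE F (hyp F (a, true)) (hyp F (a, true))) +
      cls (BE F (hyp F (a, false)) (hyp F (a, false))) = 1 := by
    intro a
    have n1 : ((sgm (kk a) : ℤ) : F) * (sF F true + sF F true) ≠ 0 := by
      have := (orth_hyp h2).on (a, true)
      rwa [BE_hyp, if_pos rfl] at this
    have n2 : ((sgm (kk a) : ℤ) : F) * (sF F false + sF F false) ≠ 0 := by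
      have := (orth_hyp h2).on (a, false)
      rwa [BE_hyp, if_pos rfl] at this
    rw [BE_hyp, BE_hyp, if_pos rfl, if_pos rfl]
    show cls (((sgm (kk a) : ℤ) : F) * (sF F true + sF F true)) + cls (((sgm (kk a) : ℤ) : F) *
      (sF F false + sF F false)) = 1
    rw [← cls_mul h2 n1 n2]
    have e1 : ((sgm (kk a) : ℤ) : F) * (sF F true + sF F true) * (((sgm (kk a) : ℤ) : F) * (sF F false + sF F false)) =
        -1 * ((2 * ((sgm (kk a) : ℤ) : F)) * (2 * ((sgm (kk a) : ℤ) : F))) := by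
      simp only [sF, if_true, Bool.false_eq_true, if_false]; ring
    rw [e1, cls_mul h2 (neg_ne_zero.2 one_ne_zero) (mul_ne_zero (mul_ne_zero h2 (sg _)) (mul_ne_zero h2 (sg _))), cls_sq,
      add_zero, hm1]
  rw [Fintype.sum_prod_type]
  simp only [Fintype.sum_bool, key, Finset.sum_const, Finset.card_univ, Fintype.card_fin]
  decide

/-- **THEOREM**: no configuration `CB` in `E6univ F` with `z = z0` if `q ≡ 3 mod 4`. -/
theorem no_cb [Fintype F] (h4 : Fintype.card F % 4 = 3) {P N0 : Subgroup ↥(E6univ F)} {z s : ↥(E6univ F)}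
    {ψ : ↥(normalizer (P : Set ↥(E6univ F))) →* Equiv.Perm (Fin 6)} (C : CB P N0 z s ψ)
    (hz : (z : GL I27 F) = z0 F) : False := by
  have ho : Odd (Fintype.card F) := Nat.odd_iff.2 (by omega)
  have h3 : 3 ≤ Fintype.card F := by omega
  have h2 : (2 : F) ≠ 0 := by
    intro h
    have h1 : ringChar F = 2 := by
      have := (CharP.cast_eq_zero_iff F (ringChar F) 2).1 (by exact_mod_cast h)
      rcases (Nat.dvd_prime Nat.prime_two).1 this with h5 | h5
      · exact absurd h5 (CharP.ringChar_ne_one)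
      · exact h5
    have h5 := FiniteField.even_card_of_char_two h1
    omega
  have hsit := sit h2 hz
  have hact : ∀ n ∈ N0, ∀ w : suppT F 2,
      (actE n w : I27 → F) = ((n : GL I27 F) : Matrix I27 I27 F) *ᵥ (w : I27 → F) := fun n hn w => by
    have h1 := congrArg Subtype.val (z_comm C hn)
    obtain ⟨a, -, -, h5, -⟩ := cent_act h2 n.2 (by rw [← hz]; exact h1)
    rw [coe_actE, h5 _ (p10_coe w)]
  have hbig : Big P N0 z s ψ actE (BE F) := ⟨hsit, C, fun n hn u v => by
    rw [BE_apply, BE_apply, hact n hn, hact n hn]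
    exact iso_of_CB ho h3 h2 C hz n hn _ _ (p10_coe u) (p10_coe v)⟩
  have hdim : finrank F (suppT F 2) = 10 := by rw [finrank_suppT, card_ten]
  obtain ⟨σ⟩ : Nonempty (Fin 10 ≃ Fin 5 × Bool) := ⟨Fintype.equivOfCardEq (by simp)⟩
  refine hbig.no hdim (f := fun i => hyp F (σ i)) ⟨fun i j hij => (orth_hyp h2).off _ _ fun h => hij (σ.injective h),
    fun i => (orth_hyp h2).on _⟩ ?_
  rw [← disc_hyp h2 h4]
  exact Equiv.sum_comp σ (fun x => cls (BE F (hyp F x) (hyp F x)))

end Cfsg.Agent.H512.Co3.E6
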