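import Cfsg.Agent.H512.Co3.Count
import Mathlib.FieldTheory.Finite.Basic

/-!
# S1920, case B: the zone has dimension four and non-square discriminant (helper512)
-/

set_option autoImplicit false

open Subgroup

namespace Cfsg.Agent.H512.Co3

open Cfsg.Agent.H13.Co3 (CB)
open Module

variable {F V : Type*} [Field F] [AddCommGroup V] [Module F V]
variable {Γ : Type*} [Group Γ] {P N0 : Subgroup Γ} {z s : Γ} {ψ : ↥(normalizer (P : Set Γ)) →* Equiv.Perm (Fin 6)}
  {act : Γ → V →ₗ[F] V} {B : V →ₗ[F] V →ₗ[F] F}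

/-! ### normal form of an orthogonal basis -/

theorem exists_cls [Finite F] (h2 : (2 : F) ≠ 0) (κ : ZMod 2) : ∃ t : F, t ≠ 0 ∧ cls t = κ := by
  have hκ : κ = 0 ∨ κ = 1 := by revert κ; decide
  rcases hκ with rfl | rfl
  · exact ⟨1, one_ne_zero, by have := cls_sq (1 : F); rwa [mul_one] at this⟩
  · have h2' : ringChar F ≠ 2 := fun h => h2 (by
      have := ringChar.Nat.cast_ringChar (R := F)
      rw [h] at this; exact_mod_cast this)
    obtain ⟨a, ha⟩ := FiniteField.exists_nonsquare h2'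
    exact ⟨a, fun h0 => ha (h0 ▸ IsSquare.zero), by unfold cls; rw [if_neg ha]⟩

theorem exists_rep [Finite F] (h2 : (2 : F) ≠ 0) {c₁ c₂ : F} (h₁ : c₁ ≠ 0) (h₂ : c₂ ≠ 0) (κ : ZMod 2) :
    ∃ x y : F, x ^ 2 * c₁ + y ^ 2 * c₂ ≠ 0 ∧ cls (x ^ 2 * c₁ + y ^ 2 * c₂) = κ := by
  classical
  have := Fintype.ofFinite F
  obtain ⟨t, ht0, ht⟩ := exists_cls h2 κ
  have hodd : Fintype.card F % 2 = 1 := by
    rcases Nat.mod_two_eq_zero_or_one (Fintype.card F) with h | h
    · exfalso
      have h2' : ringChar F ≠ 2 := fun h => h2 (by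
        have := ringChar.Nat.cast_ringChar (R := F)
        rw [h] at this; exact_mod_cast this)
      have := FiniteField.odd_card_of_char_ne_two h2'
      omega
    · exact h
  have hd1 : (Polynomial.C c₁ * Polynomial.X ^ 2 : Polynomial F).degree = 2 := Polynomial.degree_C_mul_X_pow 2 h₁
  have hd2 : (Polynomial.C c₂ * Polynomial.X ^ 2 - Polynomial.C t : Polynomial F).degree = 2 := by
    rw [Polynomial.degree_sub_C]
    · exact Polynomial.degree_C_mul_X_pow 2 h₂
    · rw [Polynomial.degree_C_mul_X_pow 2 h₂]; norm_num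
  obtain ⟨x, y, hxy⟩ := FiniteField.exists_root_sum_quadratic hd1 hd2 hodd
  simp only [Polynomial.eval_mul, Polynomial.eval_C, Polynomial.eval_pow, Polynomial.eval_X, Polynomial.eval_sub] at hxy
  have e1 : x ^ 2 * c₁ + y ^ 2 * c₂ = t := by linear_combination hxy
  exact ⟨x, y, by rw [e1]; exact ht0, by rw [e1]; exact ht⟩

/-- **normal form**: all square classes but the last one can be prescribed -/
theorem norm_form [Finite F] (S : Sit z act B) {w : ℕ} (κ : ZMod 2) {e : Fin w → V} (he : Orth B e) :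
    ∀ t, t + 1 ≤ w → ∃ e' : Fin w → V, Orth B e' ∧ (∀ v, (∀ i, B (e i) v = 0) → ∀ i, B (e' i) v = 0) ∧
      ∑ i, cls (B (e' i) (e' i)) = ∑ i, cls (B (e i) (e i)) ∧ ∀ i : Fin w, i.1 < t → cls (B (e' i) (e' i)) = κ := by
  intro t
  induction t with
  | zero => exact fun _ => ⟨e, he, fun v hv => hv, rfl, fun i hi => absurd hi (Nat.not_lt_zero _)⟩
  | succ t ih =>
    intro ht
    obtain ⟨f, hf, hsp, hsum, hcl⟩ := ih (by omega)
    let i : Fin w := ⟨t, by omega⟩
    let j : Fin w := ⟨t + 1, by omega⟩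
    have hij : i ≠ j := fun h => by
      have := congrArg Fin.val h
      simp only [i, j] at this
      omega
    obtain ⟨x, y, hN0, hN⟩ := exists_rep S.two (hf.on i) (hf.on j) κ
    obtain ⟨c₁, hc₁⟩ : ∃ c, B (f i) (f i) = c := ⟨_, rfl⟩
    obtain ⟨c₂, hc₂⟩ : ∃ c, B (f j) (f j) = c := ⟨_, rfl⟩
    have hc₁0 : c₁ ≠ 0 := hc₁ ▸ hf.on i
    have hc₂0 : c₂ ≠ 0 := hc₂ ▸ hf.on j
    rw [hc₁, hc₂] at hN0 hN
    have oij := hf.off i j hij
    have oji := hf.off j i hij.symm
    let g : Fin w → V := fun l => if l = i then x • f i + y • f j else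
      if l = j then (-(y * c₂)) • f i + (x * c₁) • f j else f l
    have gi : g i = x • f i + y • f j := by simp only [g, if_true]
    have gj : g j = (-(y * c₂)) • f i + (x * c₁) • f j := by simp only [g, if_neg hij.symm, if_true]
    have gl : ∀ l, l ≠ i → l ≠ j → g l = f l := fun l h1 h2 => by simp only [g, if_neg h1, if_neg h2]
    have nii : B (g i) (g i) = x ^ 2 * c₁ + y ^ 2 * c₂ := by
      rw [gi]
      simp only [map_add, map_smul, LinearMap.add_apply, LinearMap.smul_apply, smul_eq_mul, oij, oji, hc₁, hc₂]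
      ring
    have njj : B (g j) (g j) = c₁ * c₂ * (x ^ 2 * c₁ + y ^ 2 * c₂) := by
      rw [gj]
      simp only [map_add, map_smul, LinearMap.add_apply, LinearMap.smul_apply, smul_eq_mul, oij, oji, hc₁, hc₂]
      ring
    have nij : B (g i) (g j) = 0 := by
      rw [gi, gj]
      simp only [map_add, map_smul, LinearMap.add_apply, LinearMap.smul_apply, smul_eq_mul, oij, oji, hc₁, hc₂]
      ring
    have gz : ∀ v, (∀ l, B (f l) v = 0) → ∀ l, B (g l) v = 0 := by
      intro v hv l
      rcases eq_or_ne l i with rfl | hli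
      · rw [gi]; simp [hv]
      rcases eq_or_ne l j with rfl | hlj
      · rw [gj]; simp [hv]
      · rw [gl l hli hlj, hv]
    have gil : ∀ l, l ≠ i → l ≠ j → B (g i) (f l) = 0 := fun l h1 h2 => by
      rw [gi]; simp [hf.off _ _ h1.symm, hf.off _ _ h2.symm]
    have gjl : ∀ l, l ≠ i → l ≠ j → B (g j) (f l) = 0 := fun l h1 h2 => by
      rw [gj]; simp [hf.off _ _ h1.symm, hf.off _ _ h2.symm]
    refine ⟨g, ⟨?_, ?_⟩, fun v hv => gz v (hsp v hv), ?_, ?_⟩
    · intro a b hab
      rcases eq_or_ne a i with rfl | hai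
      · rcases eq_or_ne b j with rfl | hbj
        · exact nij
        · rw [gl b hab.symm hbj]; exact gil b hab.symm hbj
      rcases eq_or_ne a j with rfl | haj
      · rcases eq_or_ne b i with rfl | hbi
        · rw [S.symm]; exact nij
        · rw [gl b hbi hab.symm]; exact gjl b hbi hab.symm
      rcases eq_or_ne b i with rfl | hbi
      · rw [gl a hai haj, S.symm]; exact gil a hai haj
      rcases eq_or_ne b j with rfl | hbj
      · rw [gl a hai haj, S.symm]; exact gjl a hai haj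
      · rw [gl a hai haj, gl b hbi hbj]; exact hf.off a b hab
    · intro a
      rcases eq_or_ne a i with rfl | hai
      · rw [nii]; exact hN0
      rcases eq_or_ne a j with rfl | haj
      · rw [njj]; exact mul_ne_zero (mul_ne_zero hc₁0 hc₂0) hN0
      · rw [gl a hai haj]; exact hf.on a
    · rw [← hsum]
      have key : ∀ l, cls (B (g l) (g l)) = cls (B (f l) (f l)) + (if l = i then κ + cls c₁ else 0) +
          (if l = j then cls c₁ + κ else 0) := by
        have h2 : ∀ a b : ZMod 2, a = b + (a + b) := by decide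
        have h3 : ∀ a b c : ZMod 2, a + b + c = b + (a + c) := by decide
        intro l
        rcases eq_or_ne l i with rfl | hli
        · rw [nii, hN, hc₁, if_pos rfl, if_neg hij, add_zero]
          exact h2 _ _
        rcases eq_or_ne l j with rfl | hlj
        · rw [njj, cls_mul S.two (mul_ne_zero hc₁0 hc₂0) hN0, cls_mul S.two hc₁0 hc₂0, hN, hc₂, if_neg hli, if_pos rfl,
            add_zero]
          exact h3 _ _ _
        · rw [gl l hli hlj, if_neg hli, if_neg hlj, add_zero, add_zero]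
      rw [Finset.sum_congr rfl fun l _ => key l, Finset.sum_add_distrib, Finset.sum_add_distrib, Finset.sum_ite_eq',
        Finset.sum_ite_eq', if_pos (Finset.mem_univ _), if_pos (Finset.mem_univ _)]
      have h4 : ∀ a b c : ZMod 2, a + (b + c) + (c + b) = a := by decide
      exact h4 _ _ _
    · intro a ha
      rcases eq_or_ne a i with rfl | hai
      · rw [nii]; exact hN
      have hat : a.1 < t := by
        have : a.1 ≠ t := fun h => hai (Fin.ext h)
        omega
      have haj : a ≠ j := fun h => by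
        have := congrArg Fin.val h
        simp only [j] at this
        omega
      rw [gl a hai haj]
      exact hcl a hat

/-! ### sign changes -/

/-- `v` or `-v` -/
def sv (a : ZMod 2) (v : V) : V := if a = 0 then v else -v

theorem sv_zero (v : V) : sv 0 v = v := if_pos rfl

theorem sv_one (v : V) : sv 1 v = -v := if_neg one_ne_zero

theorem zcase : ∀ a : ZMod 2, a = 0 ∨ a = 1 := by decide

theorem sv_sv (a c : ZMod 2) (v : V) : sv a (sv c v) = sv (a + c) v := by
  have h11 : (1 : ZMod 2) + 1 = 0 := by decide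
  rcases zcase a with rfl | rfl
  · rw [sv_zero, zero_add]
  · rcases zcase c with rfl | rfl
    · rw [sv_zero, add_zero]
    · rw [sv_one, sv_one, neg_neg, h11, sv_zero]

theorem map_sv (φ : V →ₗ[F] V) (a : ZMod 2) (v : V) : φ (sv a v) = sv a (φ v) := by
  rcases zcase a with rfl | rfl
  · rw [sv_zero, sv_zero]
  · rw [sv_one, sv_one, map_neg]

theorem sv_or (a : ZMod 2) (v : V) : sv a v = v ∨ sv a v = -v := by
  rcases zcase a with rfl | rfl
  · left; exact sv_zero v
  · right; exact sv_one v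

theorem sv_eq_smul (a : ZMod 2) : ∃ c : F, c * c = 1 ∧ ∀ v : V, sv a v = c • v := by
  rcases zcase a with rfl | rfl
  · exact ⟨1, by ring, fun v => by rw [sv_zero, one_smul]⟩
  · exact ⟨-1, by ring, fun v => by rw [sv_one, neg_one_smul]⟩

theorem sv_inj {a c : ZMod 2} {v : V} (hv : -v ≠ v) (h : sv a v = sv c v) : a = c := by
  rcases zcase a with rfl | rfl
  · rcases zcase c with rfl | rfl
    · rfl
    · rw [sv_zero, sv_one] at h; exact absurd h.symm hv
  · rcases zcase c with rfl | rfl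
    · rw [sv_zero, sv_one] at h; exact absurd h hv
    · rfl

namespace Fr

variable {w m : ℕ} {e : Fin w → V} {b : Fin m → V}

/-- an element acting by signs on the frame -/
theorem diag_two [FiniteDimensional F V] (h : Fr P N0 z s ψ act B e b) {g : Γ} (hgz : g * z = z * g)
    {y : Fin w ⊕ Fin m → ZMod 2} (hy : ∀ i, act g (Sum.elim e b i) = sv (y i) (Sum.elim e b i)) :
    g ∈ normalizer (P : Set Γ) ∧ g ∈ normalizer (N0 : Set Γ) ∧ g ^ 2 ^ (1 + 1) = 1 := by
  have hd : ∀ i, ∃ c : F, act g (Sum.elim e b i) = c • Sum.elim e b i := fun i => by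
    obtain ⟨c, -, hc⟩ := sv_eq_smul (F := F) (V := V) (y i)
    exact ⟨c, by rw [hy, hc]⟩
  obtain ⟨hH, hN⟩ := h.big.key hgz (h.big.diag_comm h.orth h.hcard h.eig hd)
  refine ⟨hH, hN, ?_⟩
  apply h.big.S.two_elt h.big.C.z_sq hgz
  intro v
  rw [pow_one, pow_two, h.big.S.mul _ _ hgz hgz]
  refine h.orth.ext_map h.hcard (φ := act g ∘ₗ act g) (φ' := LinearMap.id) ?_ v
  intro i
  have h2 : ∀ a : ZMod 2, a + a = 0 := by decide
  simp only [LinearMap.comp_apply, LinearMap.id_apply]
  rw [hy, map_sv, hy, sv_sv, h2, sv_zero]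

/-- **the zone has dimension at most four** -/
theorem w_le [Finite F] [FiniteDimensional F V] (h : Fr P N0 z s ψ act B e b) : w ≤ 4 := by
  classical
  by_contra hcon
  push Not at hcon
  have hm := h.le_m
  let k₀ : Fin m := ⟨0, by omega⟩
  obtain ⟨e', he', hsp, -, hcl⟩ := norm_form h.big.S (cls (B (b k₀) (b k₀))) h.ee (w - 1) (by omega)
  have h' : Fr P N0 z s ψ act B e' b := h.change he' fun i k => hsp (b k) (fun i => h.eb i k) i
  let ι : Fin 4 → Fin w := Fin.castLE (by omega)
  have hι : Function.Injective ι := Fin.castLE_injective _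
  have hclι : ∀ j, cls (B (e' (ι j)) (e' (ι j))) = cls (B (b k₀) (b k₀)) := fun j => hcl _ (by
    have : (ι j).1 = j.1 := rfl
    omega)
  -- the sign vectors
  let y : (Fin 4 → ZMod 2) → Fin w ⊕ Fin m → ZMod 2 := fun x => Sum.elim (fun i => ∑ j, if ι j = i then x j else 0)
    (fun k => if k = k₀ then ∑ j, x j else 0)
  have hy_add : ∀ x x' i, y (x + x') i = y x i + y x' i := by
    intro x x' i
    rcases i with i | k
    · simp only [y, Sum.elim_inl, Pi.add_apply, ← Finset.sum_add_distrib]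
      refine Finset.sum_congr rfl fun j _ => ?_
      split_ifs
      · rfl
      · rw [add_zero]
    · simp only [y, Sum.elim_inr, Pi.add_apply, Finset.sum_add_distrib]
      split_ifs
      · rfl
      · rw [add_zero]
  have hlift : ∀ x : Fin 4 → ZMod 2, ∃ g : ↥(normalizer (P : Set Γ)), (g : Γ) * z = z * g ∧
      ∀ i, act (g : Γ) (Sum.elim e' b i) = sv (y x i) (Sum.elim e' b i) := by
    intro x
    have hdd : ∀ a : ZMod 2, a + a = 0 := by decide
    obtain ⟨g, hgz, hg⟩ := sign_lift h.big.S h'.orth _ (y x) rfl (by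
      rw [Fintype.sum_sum_type]
      simp only [y, Sum.elim_inl, Sum.elim_inr]
      rw [Finset.sum_comm]
      simp only [Finset.sum_ite_eq, Finset.sum_ite_eq', Finset.mem_univ, if_true]
      exact hdd _) (by
      rw [Fintype.sum_sum_type]
      simp only [y, Sum.elim_inl, Sum.elim_inr, Finset.sum_mul, ite_mul, zero_mul]
      rw [Finset.sum_comm]
      simp only [Finset.sum_ite_eq, Finset.sum_ite_eq', Finset.mem_univ, if_true, hclι]
      exact hdd _)
    exact ⟨⟨g, (h'.diag_two hgz hg).1⟩, hgz, hg⟩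
  choose G hGz hG using hlift
  have hmul : ∀ x x', ψ (G (x + x')) = ψ (G x) * ψ (G x') := by
    intro x x'
    rw [← map_mul]
    have hz := Sit.mul_comm' (hGz x) (hGz x')
    rcases h.big.S.same (hGz (x + x')) hz (by
      intro v
      rw [h.big.S.mul _ _ (hGz x) (hGz x')]
      refine h'.orth.ext_map h.hcard (φ' := act (G x : Γ) ∘ₗ act (G x' : Γ)) ?_ v
      intro i
      simp only [LinearMap.comp_apply]
      rw [hG, hG, map_sv, hG, sv_sv, hy_add, add_comm]) with e1 | e1
    · congr 1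
      exact Subtype.ext e1
    · have hzH := h.big.C.NH (zN h.big.C)
      have e2 : G (x + x') = ⟨z, hzH⟩ * (G x * G x') := Subtype.ext e1
      rw [e2, map_mul ψ ⟨z, hzH⟩, psi_z h.big.C, one_mul]
  have hone : ∀ x, ψ (G x) = 1 → x = 0 := by
    intro x hx
    obtain ⟨hH, hN, h4⟩ := h'.diag_two (hGz x) (hG x)
    have hN0 := mem_N0 h.big.C hH hN h4 hx
    funext j
    -- a fifth vector
    let l : Fin w := ⟨4, by omega⟩
    have hl : y x (Sum.inl l) = 0 := by
      simp only [y, Sum.elim_inl]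
      refine Finset.sum_eq_zero fun j _ => if_neg fun h0 => ?_
      have h1 := congrArg Fin.val h0
      have h2 : (ι j).1 = j.1 := rfl
      have h3 : l.1 = 4 := rfl
      omega
    have hj : y x (Sum.inl (ι j)) = x j := by
      simp only [y, Sum.elim_inl]
      rw [Finset.sum_eq_single j]
      · rw [if_pos rfl]
      · intro j' _ hj'; exact if_neg fun h0 => hj' (hι h0)
      · intro h0; exact absurd (Finset.mem_univ j) h0
    have a1 := hG x (Sum.inl l)
    have a2 := hG x (Sum.inl (ι j))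
    rw [hl, sv_zero] at a1
    rw [hj] at a2
    simp only [Sum.elim_inl] at a1 a2
    rcases h'.eigE _ hN0 with e1 | e1
    · rw [e1, ← sv_zero (e' (ι j)), sv_sv, add_zero] at a2
      exact (sv_inj (h'.ne_neg (h'.ne0 (Sum.inl (ι j)))) a2).symm
    · rw [e1] at a1
      exact absurd a1 (h'.ne_neg (h'.ne0 (Sum.inl l)))
  let f : Multiplicative (Fin 4 → ZMod 2) →* Equiv.Perm (Fin 6) := MonoidHom.mk' (fun x => ψ (G (Multiplicative.toAdd x)))
    (fun x x' => hmul _ _)
  refine no16 f ((injective_iff_map_eq_one f).2 fun x hx => ?_) (fun x => ?_) ?_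
  · exact Multiplicative.toAdd.injective (hone _ hx)
  · apply Multiplicative.toAdd.injective
    funext j
    have h2 : ∀ a : ZMod 2, a + a = 0 := by decide
    exact h2 _
  · rw [Nat.card_congr Multiplicative.toAdd, Nat.card_eq_fintype_card, Fintype.card_fun, ZMod.card, Fintype.card_fin]
    norm_num

/-- the bilinear form of the double swaps and the double sign changes -/
def chi (q j : ZMod 2 × ZMod 2) : ZMod 2 := q.1 * j.1 + q.2 * j.2

/-- `g` acts on the zone as the monomial transformation `(p, q)` up to sign -/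
def Mono (z : Γ) (act : Γ → V →ₗ[F] V) (E : ZMod 2 × ZMod 2 → V) (b : Fin m → V) (p q : ZMod 2 × ZMod 2) (g : Γ) :
    Prop :=
  g * z = z * g ∧ (∃ t : ZMod 2, ∀ j, act g (E j) = sv (t + chi q j) (E (j + p))) ∧ ∀ k, act g (b k) = b k

theorem Mono.mul (S : Sit z act B) {E : ZMod 2 × ZMod 2 → V} {b : Fin m → V} {p q p' q' : ZMod 2 × ZMod 2} {g g' : Γ}
    (h : Mono z act E b p q g) (h' : Mono z act E b p' q' g') : Mono z act E b (p + p') (q + q') (g * g') := by
  obtain ⟨hz, ⟨t, ht⟩, hb⟩ := h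
  obtain ⟨hz', ⟨t', ht'⟩, hb'⟩ := h'
  refine ⟨Sit.mul_comm' hz hz', ⟨t + t' + chi q p', fun j => ?_⟩, fun k => ?_⟩
  · rw [S.mul _ _ hz hz', ht', map_sv, ht, sv_sv]
    have e1 : t' + chi q' j + (t + chi q (j + p')) = t + t' + chi q p' + chi (q + q') j := by
      simp only [chi, Prod.fst_add, Prod.snd_add]; ring
    rw [e1]
    congr 1
    rw [add_assoc, add_comm p' p]
  · rw [S.mul _ _ hz hz', hb', hb]

/-- **the discriminant of a four-dimensional zone is not a square** -/
theorem disc_ne [Finite F] [FiniteDimensional F V] {e : Fin 4 → V} (h : Fr P N0 z s ψ act B e b)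
    (hd : ∑ i, cls (B (e i) (e i)) = 0) : False := by
  classical
  have S := h.big.S
  have h2 := S.two
  -- equal norms
  obtain ⟨e₁, he₁, hsp, hsum, hcl⟩ := norm_form S 0 h.ee 3 le_rfl
  have hcl' : ∀ i, cls (B (e₁ i) (e₁ i)) = 0 := by
    intro i
    by_cases hi : i.1 < 3
    · exact hcl i hi
    · have hi3 : i = 3 := Fin.ext (by have := i.2; show i.1 = 3; omega)
      rw [hd, Fin.sum_univ_four, hcl 0 (by decide), hcl 1 (by decide), hcl 2 (by decide), zero_add, zero_add,
        zero_add] at hsum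
      rw [hi3]; exact hsum
  obtain ⟨σ⟩ : Nonempty (ZMod 2 × ZMod 2 ≃ Fin 4) := ⟨Fintype.equivOfCardEq (by simp)⟩
  have hsc : ∀ i : Fin 4, ∃ a : F, a ≠ 0 ∧ a * a * B (e₁ i) (e₁ i) = 1 := by
    intro i
    have h1 := hcl' i
    unfold cls at h1
    have h3 : IsSquare (B (e₁ i) (e₁ i)) := by
      by_contra hc
      rw [if_neg hc] at h1
      exact absurd h1 (by decide)
    obtain ⟨c, hc⟩ := h3
    have hc0 : c ≠ 0 := fun h0 => he₁.on i (by rw [hc, h0, mul_zero])
    refine ⟨c⁻¹, inv_ne_zero hc0, ?_⟩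
    rw [hc]; field_simp
  choose a ha0 ha using hsc
  let e₂ : Fin 4 → V := fun i => a i • e₁ i
  have he₂ : Orth B e₂ := by
    refine ⟨fun i j hij => ?_, fun i => ?_⟩
    · simp only [e₂, map_smul, LinearMap.smul_apply, smul_eq_mul, he₁.off i j hij, mul_zero]
    · simp only [e₂, map_smul, LinearMap.smul_apply, smul_eq_mul]
      rw [← mul_assoc, ha]; exact one_ne_zero
  have hn₂ : ∀ i, B (e₂ i) (e₂ i) = 1 := fun i => by
    simp only [e₂, map_smul, LinearMap.smul_apply, smul_eq_mul]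
    rw [← mul_assoc, ha]
  have h' : Fr P N0 z s ψ act B e₂ b := h.change he₂ fun i k => by
    have := hsp (b k) (fun i => h.eb i k) i
    simp only [e₂, map_smul, LinearMap.smul_apply, smul_eq_mul, this, mul_zero]
  let E : ZMod 2 × ZMod 2 → V := fun j => e₂ (σ j)
  have Eoff : ∀ i j, i ≠ j → B (E i) (E j) = 0 := fun i j hij => he₂.off _ _ fun h0 => hij (σ.injective h0)
  have Eon : ∀ i, B (E i) (E i) = 1 := fun i => hn₂ _
  have Eb : ∀ j k, B (E j) (b k) = 0 := fun j k => h'.eb _ k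
  have hext : ∀ φ φ' : V →ₗ[F] V, (∀ j, φ (E j) = φ' (E j)) → (∀ k, φ (b k) = φ' (b k)) → ∀ v, φ v = φ' v := by
    intro φ φ' h1 h2
    refine h'.orth.ext_map h.hcard ?_
    rintro (i | k)
    · have := h1 (σ.symm i)
      simp only [E, Equiv.apply_symm_apply] at this
      exact this
    · exact h2 k
  have EN : ∀ n ∈ N0, (∀ j, act n (E j) = E j) ∨ (∀ j, act n (E j) = -E j) := fun n hn =>
    (h'.eigE n hn).imp (fun h0 j => h0 _) (fun h0 j => h0 _)
  have Ene : ∀ j, E j ≠ 0 := fun j => h'.ne0 (Sum.inl _)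
  -- reflections in differences
  have hdn : ∀ i j, i ≠ j → B (E i - E j) (E i - E j) = 2 := by
    intro i j hij
    simp only [map_sub, LinearMap.sub_apply, Eoff i j hij, Eoff j i hij.symm, Eon]
    ring
  have r1 : ∀ i j, i ≠ j → rf B (E i - E j) (E i) = E j := by
    intro i j hij
    unfold rf
    rw [hdn i j hij, map_sub, LinearMap.sub_apply, Eon, Eoff j i hij.symm, sub_zero, mul_one, div_self h2, one_smul]
    abel
  have r2 : ∀ i j, i ≠ j → rf B (E i - E j) (E j) = E i := by
    intro i j hij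
    unfold rf
    rw [hdn i j hij, map_sub, LinearMap.sub_apply, Eon, Eoff i j hij, zero_sub, mul_neg, mul_one, neg_div, div_self h2,
      neg_one_smul]
    abel
  have r3 : ∀ i j l, i ≠ l → j ≠ l → rf B (E i - E j) (E l) = E l := by
    intro i j l h1 h2
    apply rf_orth
    rw [map_sub, LinearMap.sub_apply, Eoff i l h1, Eoff j l h2, sub_zero]
  have r4 : ∀ i j k, rf B (E i - E j) (b k) = b k := by
    intro i j k
    apply rf_orth
    rw [map_sub, LinearMap.sub_apply, Eb, Eb, sub_zero]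
  have s1 : ∀ i, rf B (E i) (E i) = -E i := fun i => rf_self (by rw [Eon]; exact one_ne_zero)
  have s2 : ∀ i j, i ≠ j → rf B (E i) (E j) = E j := fun i j hij => rf_orth (Eoff i j hij)
  have s3 : ∀ i k, rf B (E i) (b k) = b k := fun i k => rf_orth (Eb i k)
  -- double swaps
  have swap : ∀ p : ZMod 2 × ZMod 2, p ≠ 0 → ∃ g, Mono z act E b p 0 g := by
    intro p hp
    obtain ⟨c, hc0, hcp, hcp'⟩ : ∃ c : ZMod 2 × ZMod 2, c ≠ 0 ∧ c ≠ p ∧ ∀ j, j = 0 ∨ j = p ∨ j = c ∨ j = c + p := by
      revert p; decide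
    have hpp : p + p = 0 := by
      have hzero : ∀ p : ZMod 2 × ZMod 2, p + p = 0 := by decide
      exact hzero p
    have hc0' : c + p ≠ 0 := fun h0 => hcp (by
      have : ∀ c p : ZMod 2 × ZMod 2, c + p = 0 → c = p := by decide
      exact this _ _ h0)
    have hcpp : c + p ≠ p := fun h0 => hc0 (by simpa using h0)
    have hccp : c ≠ c + p := fun h0 => hp (by simpa using h0.symm)
    obtain ⟨g, hgz, hg⟩ := S.lift (E 0 - E p) (E c - E (c + p)) 2 h2 (by
      rw [hdn 0 p hp.symm, hdn c (c + p) hccp])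
    refine ⟨g, hgz, ⟨0, fun j => ?_⟩, fun k => by rw [hg, r4, r4]⟩
    have hchi : chi 0 j = 0 := by simp [chi]
    rw [hchi, add_zero, sv_zero, hg]
    rcases hcp' j with rfl | rfl | rfl | rfl
    · rw [r3 _ _ _ hc0 hc0', r1 _ _ hp.symm, zero_add]
    · rw [r3 _ _ _ hcp hcpp, r2 _ _ hp.symm, hpp]
    · rw [r1 _ _ hccp, r3 _ _ _ hc0'.symm hcpp.symm]
    · rw [r2 _ _ hccp, r3 _ _ _ hc0.symm hcp.symm, add_assoc, hpp, add_zero]
  -- double sign changes
  have sign : ∀ q : ZMod 2 × ZMod 2, q ≠ 0 → ∃ g, Mono z act E b 0 q g := by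
    intro q hq
    obtain ⟨c, d, hcd, hcd'⟩ : ∃ c d : ZMod 2 × ZMod 2, c ≠ d ∧
        ∀ j, (j = c ∧ chi q j = 1) ∨ (j = d ∧ chi q j = 1) ∨ (j ≠ c ∧ j ≠ d ∧ chi q j = 0) := by
      revert q; decide
    obtain ⟨g, hgz, hg⟩ := S.lift (E c) (E d) 1 one_ne_zero (by rw [Eon, Eon])
    refine ⟨g, hgz, ⟨0, fun j => ?_⟩, fun k => by rw [hg, s3, s3]⟩
    rw [hg, zero_add, add_zero]
    rcases hcd' j with ⟨rfl, e1⟩ | ⟨rfl, e1⟩ | ⟨h1, h3, e1⟩
    · rw [s2 _ _ hcd.symm, s1, e1, sv_one]
    · rw [s1, rf_neg, s2 _ _ hcd, e1, sv_one]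
    · rw [s2 _ _ h3.symm, s2 _ _ h1.symm, e1, sv_zero]
  have m0 : Mono z act E b 0 0 1 := ⟨by rw [one_mul, mul_one], ⟨0, fun j => by
    rw [S.one', show chi 0 j = 0 by simp [chi], add_zero, sv_zero, add_zero]⟩, fun k => S.one' _⟩
  have hall : ∀ p q, ∃ g, Mono z act E b p q g := by
    intro p q
    obtain ⟨g, hg⟩ : ∃ g, Mono z act E b p 0 g := by
      by_cases hp : p = 0
      · exact ⟨1, hp ▸ m0⟩
      · exact swap p hp
    obtain ⟨g', hg'⟩ : ∃ g, Mono z act E b 0 q g := by
      by_cases hq : q = 0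
      · exact ⟨1, hq ▸ m0⟩
      · exact sign q hq
    exact ⟨g * g', by simpa using hg.mul S hg'⟩
  -- all these elements are in `H`, normalise `N0` and are `2`-elements
  have hprop : ∀ {p q g}, Mono z act E b p q g → g ∈ normalizer (P : Set Γ) ∧ g ∈ normalizer (N0 : Set Γ) ∧
      g ^ 2 ^ (2 + 1) = 1 := by
    intro p q g hg
    obtain ⟨hgz, ⟨t, ht⟩, hb⟩ := id hg
    have hc : ∀ n ∈ N0, ∀ v, act g (act n v) = act n (act g v) := by
      intro n hn
      refine hext (act g ∘ₗ act n) (act n ∘ₗ act g) (fun j => ?_) (fun k => ?_)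
      · simp only [LinearMap.comp_apply]
        rcases EN n hn with e1 | e1
        · rw [e1, ht, map_sv, e1]
        · rw [e1, map_neg, ht, map_sv, e1, ← sv_one, ← sv_one, sv_sv, sv_sv, add_comm]
      · simp only [LinearMap.comp_apply]
        rcases h.eigB k n hn with e1 | e1
        · rw [e1, hb, e1]
        · rw [e1, map_neg, hb, e1]
    obtain ⟨hH, hN⟩ := h.big.key hgz hc
    refine ⟨hH, hN, ?_⟩
    apply S.two_elt h.big.C.z_sq hgz
    have h2g := hg.mul S hg
    have h4g := h2g.mul S h2g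
    have hzero : ∀ p : ZMod 2 × ZMod 2, p + p = 0 := by decide
    rw [hzero p, hzero q, add_zero] at h4g
    have e4 : g ^ 2 ^ 2 = g * g * (g * g) := by
      rw [show 2 ^ 2 = 2 * 2 from rfl, pow_mul, pow_two, pow_two]
    rw [e4]
    -- the square of `g * g` is trivial
    rw [hzero p, hzero q] at h2g
    obtain ⟨hggz, ⟨t', ht'⟩, hb'⟩ := h2g
    have hq0 : ∀ j, chi (0 : ZMod 2 × ZMod 2) j = 0 := fun j => by simp [chi]
    have h2a : ∀ a : ZMod 2, a + a = 0 := by decide
    refine hext _ LinearMap.id (fun j => ?_) (fun k => ?_)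
    · rw [S.mul _ _ hggz hggz, ht', map_sv, ht', hq0, hq0, add_zero, add_zero, add_zero, sv_sv, h2a, sv_zero]; rfl
    · rw [S.mul _ _ hggz hggz, hb', hb']; rfl
  choose G hG using fun x : (ZMod 2 × ZMod 2) × (ZMod 2 × ZMod 2) => hall x.1 x.2
  let H' : (ZMod 2 × ZMod 2) × (ZMod 2 × ZMod 2) → ↥(normalizer (P : Set Γ)) := fun x => ⟨G x, (hprop (hG x)).1⟩
  -- two elements with the same parameters have the same image
  have hsame : ∀ {p q g g'} (hg : Mono z act E b p q g) (hg' : Mono z act E b p q g'),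
      ψ ⟨g, (hprop hg).1⟩ = ψ ⟨g', (hprop hg').1⟩ := by
    intro p q g g' hg hg'
    have hH := (hprop hg).1
    have hH' := (hprop hg').1
    obtain ⟨hz, ⟨t, ht⟩, hb⟩ := hg
    obtain ⟨hz', ⟨t', ht'⟩, hb'⟩ := hg'
    have hm := mul_mem (inv_mem hH') hH
    obtain ⟨c, -, hc⟩ := sv_eq_smul (F := F) (V := V) (t + t')
    have h1 : ψ ⟨g'⁻¹ * g, hm⟩ = 1 := by
      refine h'.Z _ hm c fun i => ?_
      have : e₂ i = E (σ.symm i) := by simp only [E, Equiv.apply_symm_apply]
      rw [this, ← hc, S.mul _ _ (Sit.inv_comm hz') hz]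
      apply S.act_inj hz'
      rw [S.act_inv hz', map_sv, ht, ht', sv_sv]
      congr 1
      have : ∀ a b c : ZMod 2, a + c = a + b + (b + c) := by decide
      exact this _ _ _
    have h2 : (⟨g'⁻¹ * g, hm⟩ : ↥(normalizer (P : Set Γ))) = ⟨g', hH'⟩⁻¹ * ⟨g, hH⟩ := rfl
    rw [h2, map_mul, map_inv, inv_mul_eq_one] at h1
    exact h1.symm
  have hmul : ∀ x x', ψ (H' (x + x')) = ψ (H' x) * ψ (H' x') := by
    intro x x'
    rw [← map_mul]
    exact hsame (hG (x + x')) ((hG x).mul S (hG x'))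
  have hone : ∀ x, ψ (H' x) = 1 → x = 0 := by
    intro x hx
    obtain ⟨hH, hN, h8⟩ := hprop (hG x)
    have hN0 := mem_N0 h.big.C hH hN h8 hx
    obtain ⟨hz, ⟨t, ht⟩, hb⟩ := hG x
    have hp : x.1 = 0 := by
      by_contra hp
      have h0 := ht 0
      rw [zero_add] at h0
      have h3 : B (E 0) (act (G x) (E 0)) = 0 := by
        rw [h0]
        rcases sv_or (t + chi x.2 0) (E x.1) with e1 | e1
        · rw [e1, Eoff _ _ (Ne.symm hp)]
        · rw [e1, map_neg, Eoff _ _ (Ne.symm hp), neg_zero]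
      rcases EN _ hN0 with e1 | e1
      · rw [e1, Eon] at h3; exact one_ne_zero h3
      · rw [e1, map_neg, Eon] at h3; exact one_ne_zero (neg_eq_zero.1 h3)
    have hq : ∀ j, chi x.2 j = chi x.2 0 := by
      intro j
      have hj := ht j
      have h0 := ht 0
      rw [hp, add_zero] at hj h0
      have hcanc : ∀ a b c d : ZMod 2, a + b = d → a + c = d → b = c := by decide
      rcases EN _ hN0 with e1 | e1
      · rw [e1, ← sv_zero (E j), sv_sv, add_zero] at hj
        rw [e1, ← sv_zero (E 0), sv_sv, add_zero] at h0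
        exact hcanc t _ _ 0 (sv_inj (h'.ne_neg (Ene j)) hj).symm (sv_inj (h'.ne_neg (Ene 0)) h0).symm
      · rw [e1, ← sv_one (E j)] at hj
        rw [e1, ← sv_one (E 0)] at h0
        exact hcanc t _ _ 1 (sv_inj (h'.ne_neg (Ene j)) hj).symm (sv_inj (h'.ne_neg (Ene 0)) h0).symm
    refine Prod.ext hp ?_
    revert hq
    generalize x.2 = q
    revert q
    decide
  let f : Multiplicative ((ZMod 2 × ZMod 2) × (ZMod 2 × ZMod 2)) →* Equiv.Perm (Fin 6) :=
    MonoidHom.mk' (fun x => ψ (H' (Multiplicative.toAdd x))) (fun x x' => hmul _ _)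
  refine no16 f ((injective_iff_map_eq_one f).2 fun x hx => ?_) (fun x => ?_) ?_
  · exact Multiplicative.toAdd.injective (hone _ hx)
  · apply Multiplicative.toAdd.injective
    have h2 : ∀ a : (ZMod 2 × ZMod 2) × (ZMod 2 × ZMod 2), a + a = 0 := by decide
    exact h2 _
  · rw [Nat.card_congr Multiplicative.toAdd, Nat.card_eq_fintype_card]
    simp

end Fr

end Cfsg.Agent.H512.Co3
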